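import Groth.Agent.L10.FMBC.ModKernel
import Groth.Agent.L10.FMBC.Diag

/-!
A derived tensor product of closed subschemes as the derived restriction of the product to the diagonal.
-/

set_option autoImplicit false
set_option linter.style.haveILetI false
set_option backward.defeqAttrib.useBackward true
set_option backward.isDefEq.respectTransparency false
set_option backward.isDefEq.respectTransparency.types false

universe u

open CategoryTheory CategoryTheory.Limits AlgebraicGeometry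

attribute [local instance] HasDerivedCategory.standard

namespace Groth.L10.RegDiag

open Groth.L29.BC Groth.L29.DC

variable {X Y : Scheme.{u}}

/-- derived direct image of a module along a closed immersion -/
theorem nonempty_push_single (f : Y ⟶ X) [IsClosedImmersion f] [DCoh.HasRpush f] (M : Y.Modules) :
    Nonempty (DCoh.inD X ((Scheme.Modules.pushforward f).obj M) ≅
      (DCoh.Rpush f).obj (DCoh.toD Y (Groth.Lead.LTMod.S0 M))) := by
  haveI := Groth.L17.PushQCoh.additive_push f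
  exact ⟨(DerivedCategory.singleFunctorIsoCompQ X.Modules 0).app _ ≪≫
    DerivedCategory.Q.mapIso ((HomologicalComplex.singleMapHomologicalComplex
      (Scheme.Modules.pushforward f) (ComplexShape.up ℤ) 0).app M).symm ≪≫
    (Groth.L10.FMDiag.rpushIso f).app (Groth.Lead.LTMod.S0 M)⟩

theorem isQCohD_O (X : Scheme.{u}) : DCoh.IsQCohD (DCoh.toD X (RHom.O0 X)) :=
  PCQCoh.isQCohD_of_perfect ((isPerfect_iff_wit _).2 fun _ => ⟨⊤, trivial,
    (show PWit (DerivedCategory.Q.obj (RHom.O0 X)) from ⟨_, RHom.isStrictlyPerfect_O0, ⟨Iso.refl _⟩⟩).restrict _⟩)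

theorem nonempty_tensor_unit (L : CochainComplex X.Modules ℤ) (hL : DCoh.IsKFlat L) [DCoh.HasLTensorCx L] :
    Nonempty ((DCoh.LTensorCx L).obj (DCoh.toD X (RHom.O0 X)) ≅ DCoh.toD X L) :=
  ⟨(Assoc.allIso L hL).app (RHom.O0 X) ≪≫
    DerivedCategory.Q.mapIso (Groth.L00.KFlat.commIso L (RHom.O0 X) ≪≫ RHom.unitCxIso.app L)⟩

set_option maxHeartbeats 1600000 in
/-- the derived tensor product of two closed subschemes and the diagonal -/
theorem nonempty_iso {B Y₁ Y₂ : Scheme.{u}} (f : X ⟶ B) (i₁ : Y₁ ⟶ X) (i₂ : Y₂ ⟶ X)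
    [IsClosedImmersion i₁] [IsClosedImmersion i₂] [Flat f] [Flat (i₁ ≫ f)]
    [DCoh.HasLTensorMod ((Scheme.Modules.pushforward i₂).obj (Coh.structureModule Y₂))]
    [DCoh.HasLpull (pullback.diagonal f)] :
    Nonempty ((DCoh.LTensorMod ((Scheme.Modules.pushforward i₂).obj (Coh.structureModule Y₂))).obj
        (DCoh.inD X ((Scheme.Modules.pushforward i₁).obj (Coh.structureModule Y₁))) ≅
      (DCoh.Lpull (pullback.diagonal f)).obj (DCoh.inD (pullback f f)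
        ((Scheme.Modules.pushforward (pullback.map (i₁ ≫ f) (i₂ ≫ f) f f i₁ i₂ (𝟙 B) (Category.comp_id _) (Category.comp_id _))).obj
          (Coh.structureModule (pullback (i₁ ≫ f) (i₂ ≫ f)))))) := by
  haveI := fun {A B : Scheme.{u}} (k : A ⟶ B) => RpushQC.hasRpush k
  haveI := fun {A B : Scheme.{u}} (k : A ⟶ B) => Groth.L00.KFlat.hasLpull k
  haveI := fun {V : Scheme.{u}} (E : CochainComplex V.Modules ℤ) => Groth.L00.KFlat.hasLTensorCx E
  let pr₁ := pullback.fst f f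
  let pr₂ := pullback.snd f f
  let h : pullback (i₁ ≫ f) f ⟶ X := pullback.snd (i₁ ≫ f) f
  let j : pullback (i₁ ≫ f) f ⟶ pullback f f :=
    pullback.map (i₁ ≫ f) f f f i₁ (𝟙 X) (𝟙 B) (Category.comp_id _) (by simp)
  let q : pullback (i₁ ≫ f) (i₂ ≫ f) ⟶ pullback (i₁ ≫ f) f :=
    pullback.map (i₁ ≫ f) (i₂ ≫ f) (i₁ ≫ f) f (𝟙 Y₁) i₂ (𝟙 B) (by simp) (by simp)
  have hj₂ : j ≫ pr₂ = h := (pullback.lift_snd _ _ _).trans (Category.comp_id _)
  have hq₁ : q ≫ pullback.fst (i₁ ≫ f) f = pullback.fst (i₁ ≫ f) (i₂ ≫ f) :=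
    (pullback.lift_fst _ _ _).trans (Category.comp_id _)
  have hcj : IsPullback (pullback.fst (i₁ ≫ f) f) j i₁ pr₁ := by
    refine IsPullback.of_bot ?_ (pullback.lift_fst _ _ _).symm (IsPullback.of_hasPullback f f)
    rw [hj₂]
    exact IsPullback.of_hasPullback (i₁ ≫ f) f
  have hcq : IsPullback (pullback.snd (i₁ ≫ f) (i₂ ≫ f)) q i₂ h := by
    refine IsPullback.of_bot ?_ (pullback.lift_snd _ _ _).symm (IsPullback.of_hasPullback (i₁ ≫ f) f).flip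
    rw [hq₁]
    exact (IsPullback.of_hasPullback (i₁ ≫ f) (i₂ ≫ f)).flip
  haveI : IsClosedImmersion j :=
    MorphismProperty.of_isPullback (P := @IsClosedImmersion) hcj ‹_›
  haveI : IsClosedImmersion q :=
    MorphismProperty.of_isPullback (P := @IsClosedImmersion) hcq ‹_›
  have hqj : q ≫ j = pullback.map (i₁ ≫ f) (i₂ ≫ f) f f i₁ i₂ (𝟙 B) (Category.comp_id _) (Category.comp_id _) := by
    apply pullback.hom_ext <;> simp [q, j]
  haveI : IsClosedImmersion (pullback.map (i₁ ≫ f) (i₂ ≫ f) f f i₁ i₂ (𝟙 B) (Category.comp_id _) (Category.comp_id _)) :=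
    hqj ▸ inferInstance
  let G := (Scheme.Modules.pushforward i₂).obj (Coh.structureModule Y₂)
  obtain ⟨P, r, hP, -, hr, -⟩ := Groth.L00.KFlat.exists_resolution (Groth.Lead.LTMod.S0 G)
  haveI := (DerivedCategory.isIso_Q_map_iff_quasiIso _ r).2 hr
  obtain ⟨eP⟩ : Nonempty (DCoh.toD X P ≅ DCoh.toD X (Groth.Lead.LTMod.S0 G)) := ⟨asIso (DerivedCategory.Q.map r)⟩
  obtain ⟨g₁⟩ := nonempty_push_single i₁ (Coh.structureModule Y₁)
  obtain ⟨g₂⟩ := nonempty_push_single i₂ (Coh.structureModule Y₂)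
  obtain ⟨gm⟩ := nonempty_push_single
    (pullback.map (i₁ ≫ f) (i₂ ≫ f) f f i₁ i₂ (𝟙 B) (Category.comp_id _) (Category.comp_id _))
    (Coh.structureModule (pullback (i₁ ≫ f) (i₂ ≫ f)))
  obtain ⟨eP'⟩ : Nonempty (DCoh.toD X P ≅ (DCoh.Rpush i₂).obj (DCoh.toD Y₂ (RHom.O0 Y₂))) :=
    ⟨eP ≪≫ ((DerivedCategory.singleFunctorIsoCompQ X.Modules 0).app G).symm ≪≫ g₂⟩
  have hPq : DCoh.IsQCohD (DCoh.toD X P) := isQCohD_of_iso eP'.symm (RpushQC.isQCohD_Rpush i₂ _ (isQCohD_O Y₂))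
  let P' : CochainComplex (pullback f f).Modules ℤ := (Proj.pullCx pr₂).obj P
  have hP' : DCoh.IsKFlat P' := Groth.L00.KFlat.pullback_kflat pr₂ P hP
  obtain ⟨oP⟩ : Nonempty ((DCoh.Lpull pr₂).obj (DCoh.toD X P) ≅ DCoh.toD _ P') :=
    ⟨Groth.L00.DerivedApi.objIso (Groth.L00.DerivedApi.acyclicKFlat_pullback pr₂) P hP⟩
  have hP'q : DCoh.IsQCohD (DCoh.toD _ P') := isQCohD_of_iso oP (isQCohD_Lpull pr₂ hPq)
  obtain ⟨oj⟩ : Nonempty ((DCoh.Lpull j).obj (DCoh.toD _ P') ≅ DCoh.toD _ ((Proj.pullCx j).obj P')) :=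
    ⟨Groth.L00.DerivedApi.objIso (Groth.L00.DerivedApi.acyclicKFlat_pullback j) P' hP'⟩
  -- the kernel
  haveI : IsIso (β hcj.w (DCoh.toD Y₁ (RHom.O0 Y₁))) :=
    Groth.L10.FMBC.bc_of_flat_or hcj (Or.inr inferInstance) _ (isQCohD_O Y₁)
  haveI : IsIso (β hcq.w (DCoh.toD Y₂ (RHom.O0 Y₂))) :=
    Groth.L10.FMBC.bc_of_flat_or hcq (Or.inr inferInstance) _ (isQCohD_O Y₂)
  obtain ⟨τ, hτ⟩ := Groth.L10.FMBC.exists_projection j P' hP' hP'q
  haveI := hτ _ (isQCohD_O (pullback (i₁ ≫ f) f))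
  obtain ⟨rc⟩ := Groth.L10.FMBC.nonempty_rpush_comp' q j hqj
  obtain ⟨lc⟩ := Groth.L10.FMBC.nonempty_lpull_comp' j pr₂ hj₂
  obtain ⟨e₁⟩ := Groth.L10.FMBC.nonempty_Lpull_O0' (pullback.fst (i₁ ≫ f) f)
  obtain ⟨e₂⟩ := Groth.L10.FMBC.nonempty_Lpull_O0' (pullback.snd (i₁ ≫ f) (i₂ ≫ f))
  obtain ⟨u⟩ := nonempty_tensor_unit ((Proj.pullCx j).obj P') (Groth.L00.KFlat.pullback_kflat j P' hP')
  obtain ⟨z⟩ : Nonempty (DCoh.inD (pullback f f)
        ((Scheme.Modules.pushforward (pullback.map (i₁ ≫ f) (i₂ ≫ f) f f i₁ i₂ (𝟙 B) (Category.comp_id _) (Category.comp_id _))).obj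
          (Coh.structureModule (pullback (i₁ ≫ f) (i₂ ≫ f)))) ≅
      (DCoh.LTensorCx P').obj ((DCoh.Lpull pr₁).obj (DCoh.inD X
        ((Scheme.Modules.pushforward i₁).obj (Coh.structureModule Y₁))))) :=
    ⟨gm ≪≫ (rc.app _).symm ≪≫
      (DCoh.Rpush j).mapIso ((DCoh.Rpush q).mapIso e₂.symm ≪≫ (asIso (β hcq.w (DCoh.toD Y₂ (RHom.O0 Y₂)))).symm ≪≫
        (DCoh.Lpull h).mapIso eP'.symm ≪≫ (lc.app _).symm ≪≫ (DCoh.Lpull j).mapIso oP ≪≫ oj ≪≫ u.symm) ≪≫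
      (asIso (τ.app (DCoh.toD _ (RHom.O0 (pullback (i₁ ≫ f) f))))).symm ≪≫
      (DCoh.LTensorCx P').mapIso ((DCoh.Rpush j).mapIso e₁.symm ≪≫
        (asIso (β hcj.w (DCoh.toD Y₁ (RHom.O0 Y₁)))).symm ≪≫ (DCoh.Lpull pr₁).mapIso g₁.symm)⟩
  -- restriction to the diagonal
  obtain ⟨t⟩ := Groth.L10.FMBC.nonempty_pullTensorD (pullback.diagonal f) P' hP'
  obtain ⟨d₁⟩ := Groth.L10.FMBC.nonempty_lpull_comp' (pullback.diagonal f) pr₁ (pullback.diagonal_fst f)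
  obtain ⟨d₂⟩ := Groth.L10.FMBC.nonempty_lpull_comp' (pullback.diagonal f) pr₂ (pullback.diagonal_snd f)
  obtain ⟨n⟩ := Groth.L10.FMDiag.nonempty_Lpull_id (X := X)
  obtain ⟨c⟩ := ProjQC.nonempty_LTensorCx_congr (A := (Proj.pullCx (pullback.diagonal f)).obj P')
    (B := Groth.Lead.LTMod.S0 G)
    ((Groth.L00.DerivedApi.objIso (Groth.L00.DerivedApi.acyclicKFlat_pullback (pullback.diagonal f)) P' hP').symm ≪≫
      (DCoh.Lpull (pullback.diagonal f)).mapIso oP.symm ≪≫ d₂.app _ ≪≫ n.app _ ≪≫ eP)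
  exact ⟨(Groth.Lead.LTMod.iso G).app _ ≪≫ c.symm.app _ ≪≫
    (DCoh.LTensorCx _).mapIso (d₁.app _ ≪≫ n.app _).symm ≪≫ (t.app _).symm ≪≫
    (DCoh.Lpull (pullback.diagonal f)).mapIso z.symm⟩

end Groth.L10.RegDiag
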